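import Mathlib
import Cfsg.Agent.H554.LieD
import Cfsg.Agent.KFacts.RgdOwn_m3
import Cfsg.Agent.ClosedExc.Rows
import Cfsg.Agent.SigTab.Table
import Cfsg.Agent.H554.SplitTorus
import Cfsg.Agent.FixBN.ReeSplit
import Cfsg.Agent.S1163
import Cfsg.Agent.S1162
import Cfsg.Agent.S1073
import Cfsg.Agent.S1069
import Cfsg.Agent.Mrg.ParSys.Fam.TwoFFour
import Cfsg.Agent.S1072
import Cfsg.Agent.S1068
import Cfsg.Agent.S1110
import Cfsg.Agent.FastGrp
import Cfsg.Agent.Prune
set_option linter.all false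
prune_inst 0x7f00000000000000000000000000000000000000000000000000000000000000000000000000000000000000000000000000000000000000000000000000000000000000000000000000000000000000003fffffffffffffffffffffffffffbeffbdffffffff
open scoped Cfsg.Agent.FastGrp

-- part: H554/LieE
section
/-!
# No Hall systems: the Chevalley groups of type `F₄`, `E₆`, `E₇`, `E₈` (helper554)
-/

set_option autoImplicit false
set_option linter.unusedSectionVars false

namespace Cfsg.Agent.H554.LieE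

open CoxeterSystem Cfsg.Lie Cfsg.Agent.ChevalleyStructure Cfsg.Agent.ChevalleyStructure.CoxeterGeom
  Cfsg.Agent.ChevalleyStructure.CoxeterGeomTypes
  Cfsg.Agent.Tits.Roots Cfsg.Agent.Tits.Core Cfsg.Agent.Nodes.Reps Cfsg.Agent.Nodes.BNOf
  Cfsg.Agent.Nodes.RGDChev Cfsg.Agent.Nodes.RGDLib Cfsg.Agent.Nodes.StabComb Cfsg.Agent.Nodes.Bruhat Cfsg.Agent.H554.RG
open Cfsg.Agent.KFacts.SLRow.Chev (card_XV)

universe u

variable {D : ChevalleyDatum} {l : ℕ} {M : CoxeterMatrix (Fin l)}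

theorem GG_eq_top (hp : IsType D l M) (K : Type u) [Field K] {W : Type*} [Group W] (cs : CoxeterSystem M W) :
    GG cs hp.isCartan ((D.diagonalSubgroup K).subgroupOf (D.group K)) (fun x => (XV D l K x).subgroupOf (D.group K)) =
      ⊤ := by
  rw [eq_top_iff, ← G1_eq_top hp cs]
  exact RGD.Sup_le fun x hx => X_le_GG (X := fun x => (XV D l K x).subgroupOf (D.group K)) hx

/-- The criterion for the tabulated data. -/
theorem noHall_group (hp : IsType D l M) (r : ℕ) (hr : r < D.nroots) (k j : Fin l)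
    (hd : ∀ i : Fin l, 0 ≤ D.cartan i r) (hk : ∀ i : Fin l, i ≠ k → D.cartan i r = 0)
    (hj : ∀ σ : Equiv.Perm (Fin l), (∀ a b, M (σ a) (σ b) = M a b) → σ k ≠ j)
    (K : Type u) [Field K] [Finite K] : NoHall ↥(D.group K) := by
  obtain ⟨p, hp'⟩ := CharP.exists K
  have : Fact p.Prime := ⟨CharP.char_is_prime K p⟩
  let cs := M.toCoxeterSystem
  have hW : Finite M.Group := finite_W hp cs
  have R := rgd (K := K) hp cs p
  have hfin : Finite ↥(D.group K) := inferInstance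
  have h1 := LieC.cast_neg_one (Nat.card K)
  have hX := fun x hx => card_XV hp K cs (x := x) hx
  refine noHall_of_root R (GG_eq_top hp K cs) (isRoot_vec hp cs hr) ?_ k j ?_ ?_ (l := Nat.card K + 1) ?_ ?_ ?_ ?_
  · intro i
    rw [pairing_vec hp i hr]
    exact hd i
  · intro i hi
    rw [mem_orth, pairing_vec hp i hr]
    exact hk i hi
  · intro σ hσ _
    exact hj σ hσ
  · have := Finite.one_lt_card (α := K)
    omega
  · intro x hx
    rw [hX x hx, h1]
    ring
  · rw [hX _ (isRoot_vec hp cs hr), h1]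
  · rw [hX _ (isRoot_sr cs _ _), h1]

theorem noHall_F4 (K : Type u) [Field K] [Finite K] : NoHall ↥(chevF4.group K) := by
  refine noHall_group (M := CoxeterMatrix.F₄) (by simp [IsType, typeList]) 44 (by decide +kernel) 0 1
    (by decide +kernel) (by decide +kernel) ?_ K
  intro σ hσ
  exact LieC.sigma_ne hσ (u := 0) (v := 1) (c := 1) (a := 0) (b := 2) (by decide) (by decide) (by decide)
    (by decide) (by decide) (by decide)

theorem noHall_E6 (K : Type u) [Field K] [Finite K] : NoHall ↥(chevE6.group K) := by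
  refine noHall_group (M := CoxeterMatrix.E₆) (by simp [IsType, typeList]) 71 (by decide +kernel) 1 3
    (by decide +kernel) (by decide +kernel) ?_ K
  intro σ hσ
  exact LieC.sigma_ne hσ (u := 1) (v := 3) (c := 3) (a := 1) (b := 2) (by decide) (by decide) (by decide)
    (by decide) (by decide) (by decide)

theorem noHall_E7 (K : Type u) [Field K] [Finite K] : NoHall ↥(chevE7.group K) := by
  refine noHall_group (M := CoxeterMatrix.E₇) (by simp [IsType, typeList]) 125 (by decide +kernel) 0 2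
    (by decide +kernel) (by decide +kernel) ?_ K
  intro σ hσ
  exact LieC.sigma_ne hσ (u := 0) (v := 2) (c := 2) (a := 0) (b := 3) (by decide) (by decide) (by decide)
    (by decide) (by decide) (by decide)

theorem noHall_E8 (K : Type u) [Field K] [Finite K] : NoHall ↥(chevE8.group K) := by
  refine noHall_group (M := CoxeterMatrix.E₈) (by simp [IsType, typeList]) 239 (by decide +kernel) 7 6
    (by decide +kernel) (by decide +kernel) ?_ K
  intro σ hσ
  exact LieC.sigma_ne hσ (u := 7) (v := 6) (c := 6) (a := 7) (b := 5) (by decide) (by decide) (by decide)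
    (by decide) (by decide) (by decide)

end Cfsg.Agent.H554.LieE
end

-- part: H554/LieTw
section
/-!
# No Hall systems: `³D₄(q)`, `²E₆(q)` (helper554)
-/

set_option autoImplicit false
set_option linter.unusedSectionVars false

namespace Cfsg.Agent.H554.LieTw

open CoxeterSystem Cfsg.Lie Cfsg.Agent.ChevalleyStructure Cfsg.Agent.ChevalleyStructure.CoxeterGeom
  Cfsg.Agent.ChevalleyStructure.CoxeterGeomTypes
  Cfsg.Agent.Tits.Roots Cfsg.Agent.Tits.Core Cfsg.Agent.Nodes.Reps Cfsg.Agent.Nodes.BNOf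
  Cfsg.Agent.Nodes.RGDChev Cfsg.Agent.Nodes.RGDFold Cfsg.Agent.Nodes.RGDLib
  Cfsg.Agent.Nodes.StabComb Cfsg.Agent.Nodes.Bruhat Cfsg.Agent.H554.RG
open Cfsg.Agent.ChevalleyStructure.TwistedFix

section General

variable {I W S : Type*} [Fintype I] [DecidableEq I] [Group W] [Group S] {M : CoxeterMatrix I}
  {cs : CoxeterSystem M W} {A : I → I → ℤ} {h : IsCartan M A} {p : ℕ} {T : Subgroup S} {n : I → S}
  {X : (I → ℤ) → Subgroup S} (R : RGD cs h p T n X)

include R

theorem sq_of_simple [Finite W] {l : ℕ} (hs : ∀ i, ((Nat.card (X (sr i)) : ℕ) : ZMod l) ^ 2 = 1) (x : I → ℤ)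
    (hx : IsRoot cs h x) : ((Nat.card (X x) : ℕ) : ZMod l) ^ 2 = 1 := by
  obtain ⟨w, i, rfl⟩ := hx
  rw [Cfsg.Agent.Nodes.CardSup.card_X_rep R w (isRoot_sr cs h i)]
  exact hs i

end General

namespace D4

open Cfsg.Agent.Nodes.RGDTwD4 Cfsg.Agent.ClosedExc.TwD4

theorem noHall {K : Type} [Field K] [Fintype K] {q : ℕ} (hq : IsPrimePow q) (hK : Fintype.card K = q ^ 3) :
    NoHall ↥(twistedD4 K q) := by
  obtain ⟨φ, hφ⟩ := D4Fixed.exists_frob hq hK
  have hle := D4Fixed.twisted_le_fix hK hφ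
  obtain ⟨p, hpc⟩ := CharP.exists K
  have : Fact p.Prime := ⟨CharP.char_is_prime K p⟩
  let cs := CoxeterMatrix.G₂.toCoxeterSystem
  have hW : Finite CoxeterMatrix.G₂.Group := Cfsg.Agent.Nodes.RGDFold.finite_W
    (hp := Cfsg.Agent.Nodes.RGDTwD4.hp) cs isCartan foldData
  have R := _root_.Cfsg.Agent.Nodes.RGDTwD4.rgd cs hK hφ p
  have c0 := card_X0 hφ hle hq.two_le hK
  have c1 := card_X1 (K := K) hφ hle
  rw [hK] at c1
  have h1 := LieC.cast_neg_one q
  have e1 : (((q ^ 3 : ℕ) : ZMod (q + 1))) = -1 := by rw [Nat.cast_pow, h1]; ring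
  have hr : rep cs isCartan (cs.simple 0 * cs.simple 1) (sr 0) = ![2, 3] := by
    rw [rep_mul_apply, rep_refl, rep_refl]
    decide +kernel
  have hroot : IsRoot cs isCartan (![2, 3] : Fin 2 → ℤ) := ⟨_, 0, hr.symm⟩
  have c2 : Nat.card (X φ q ![2, 3]) = q := by
    rw [← hr, Cfsg.Agent.Nodes.CardSup.card_X_rep R _ (isRoot_sr cs _ _), c0]
  have hfin : Finite ↥(twistedD4 K q) := inferInstance
  refine noHall_of_root R ?_ hroot ?_ 0 1 ?_ ?_ (l := q + 1) ?_ ?_ ?_ ?_
  · rw [eq_top_iff, ← _root_.Cfsg.Agent.Nodes.RGDTwD4.G1_eq_top cs hK hφ]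
    exact RGD.Sup_le fun x hx => X_le_GG hx
  · intro i
    fin_cases i <;> decide +kernel
  · intro i hi
    fin_cases i
    · exact absurd rfl hi
    · exact mem_orth.2 (by decide +kernel : pairing A 1 ![2, 3] = 0)
  · intro σ _ hσ e
    have h2 := hσ 0
    rw [e, c1, c0] at h2
    have h3 := hq.two_le
    nlinarith only [h2, Nat.pow_le_pow_left h3 2]
  · have := hq.two_le
    omega
  · refine sq_of_simple R ?_
    intro i
    fin_cases i
    · show ((Nat.card (X φ q (sr 0)) : ℕ) : ZMod (q + 1)) ^ 2 = 1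
      rw [c0, h1]; ring
    · show ((Nat.card (X φ q (sr 1)) : ℕ) : ZMod (q + 1)) ^ 2 = 1
      rw [c1, e1]; ring
  · rw [c2, h1]
  · rw [c1, e1]

end D4

namespace E6

open Cfsg.Agent.Nodes.RGDTwE6 Cfsg.Agent.GpExc.TwCard
open Cfsg.Agent.ChevalleyStructure.TwE6Basic (exists_frob)

theorem noHall {K : Type} [Field K] [Fintype K] {q : ℕ} (hq : IsPrimePow q) (hK : Fintype.card K = q ^ 2) :
    NoHall ↥(twistedE6 K q) := by
  obtain ⟨φ, hφ, hqq⟩ := exists_frob hq hK
  obtain ⟨p, hpc⟩ := CharP.exists K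
  have : Fact p.Prime := ⟨CharP.char_is_prime K p⟩
  let cs := CoxeterMatrix.F₄.toCoxeterSystem
  have hW : Finite CoxeterMatrix.F₄.Group := Cfsg.Agent.Nodes.RGDFold.finite_W
    (hp := Cfsg.Agent.Nodes.RGDTwE6.hp) cs isCartan foldData
  have R := _root_.Cfsg.Agent.Nodes.RGDTwE6.rgd cs hφ hqq p
  have cX := card_simple hφ hqq hq.one_lt hK
  have c2 : Nat.card (X φ q (V chevE6 J 71)) = q ^ ex 71 := card_X hφ hqq hq.one_lt hK cs (by decide +kernel)
  have ex71 : ex 71 = 1 := by decide +kernel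
  rw [ex71, pow_one] at c2
  have h1 := LieC.cast_neg_one q
  have e1 : (((q ^ 2 : ℕ) : ZMod (q + 1))) = 1 := by rw [Nat.cast_pow, h1]; ring
  have hroot : IsRoot cs isCartan (V chevE6 J 71) := Cfsg.Agent.GpExc.TwOut.isRoot_V cs (by decide +kernel)
  have hfin : Finite ↥(twistedE6 K q) := inferInstance
  refine noHall_of_root R ?_ hroot ?_ 0 1 ?_ ?_ (l := q + 1) ?_ ?_ ?_ ?_
  · rw [eq_top_iff, ← _root_.Cfsg.Agent.Nodes.RGDTwE6.G1_eq_top cs hφ hqq]
    exact RGD.Sup_le fun x hx => X_le_GG hx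
  · exact (by decide +kernel : ∀ i, 0 ≤ pairing A i (V chevE6 J 71))
  · intro i hi
    exact mem_orth.2 ((by decide +kernel : ∀ i, i ≠ 0 → pairing A i (V chevE6 J 71) = 0) i hi)
  · intro σ hσ _
    exact LieC.sigma_ne hσ (u := 0) (v := 1) (c := 1) (a := 0) (b := 2) (by decide) (by decide) (by decide)
      (by decide) (by decide) (by decide)
  · have := hq.two_le
    omega
  · refine sq_of_simple R ?_
    intro i
    rw [cX i]
    split_ifs
    · rw [pow_one, h1]; ring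
    · rw [e1]; ring
  · rw [c2, h1]
  · rw [cX, if_pos (Or.inr rfl), pow_one, h1]

end E6

end Cfsg.Agent.H554.LieTw
end

-- part: H554/LieSz
section
/-!
# No Hall systems: `Sz(q)`, `²G₂(q)` (helper554)
-/

set_option autoImplicit false
set_option linter.unusedSectionVars false

namespace Cfsg.Agent.H554.LieSz

open Subgroup Cfsg Cfsg.Lie Cfsg.Agent.FixBN Cfsg.Agent.H554.SplitTorus Cfsg.Agent.Omega.ML.LieRow

/-- a simple group with order divisible by four is not commutative -/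
theorem not_comm_of_four_dvd {S : Type*} [Group S] [Finite S] [IsSimpleGroup S] (h4 : 4 ∣ Nat.card S) :
    ¬ IsMulCommutative S := by
  intro hc
  letI : CommGroup S := { (inferInstance : Group S) with mul_comm := fun a b => hc.is_comm.comm a b }
  have h1 : (Nat.card S).Prime := IsSimpleGroup.prime_card
  have h2 := (Nat.prime_dvd_prime_iff_eq Nat.prime_two h1).mp (Dvd.dvd.trans (by norm_num) h4)
  rw [← h2] at h4
  norm_num at h4

theorem two_dvd_of_odd_mul {a b c : ℕ} (h : a * b = c) (ha : ¬ 2 ∣ a) (hc : 2 ∣ c) : 2 ∣ b := by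
  rw [← h] at hc
  exact (Nat.prime_two.dvd_mul.mp hc).resolve_left ha

/-- **`Sz(q)`.** -/
theorem noHall_Sz {F : Type*} [Field F] [Fintype F] {m : ℕ} (hm : 1 ≤ m) (hF : Fintype.card F = 2 ^ (2 * m + 1)) :
    NoHall ↥(Cfsg.Lie.Sz F (2 ^ (m + 1))) := by
  have H := LieRecognition.SzMatrix.good hF
  have hs : IsSimpleGroup ↥(Cfsg.Lie.Sz F (2 ^ (m + 1))) := Cfsg.Agent.S1162.result hm hF
  have hcard := (Cfsg.Agent.S1163.result hm hF).1
  have hfin : Finite ↥(Cfsg.Lie.Sz F (2 ^ (m + 1))) := inferInstance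
  set q := 2 ^ (2 * m + 1) with hq
  have hq8 : 8 ≤ q := by
    calc 8 = 2 ^ 3 := by norm_num
      _ ≤ 2 ^ (2 * m + 1) := Nat.pow_le_pow_right (by norm_num) (by omega)
  have heven : 2 ∣ q := dvd_pow_self 2 (by omega)
  have hna : ¬ IsMulCommutative ↥(Cfsg.Lie.Sz F (2 ^ (m + 1))) := by
    refine not_comm_of_four_dvd ?_
    rw [hcard, mul_assoc]
    refine Dvd.dvd.mul_right ?_ _
    have := pow_dvd_pow_of_dvd heven 2
    exact this
  have hsp := SzSplit.split hm hF H hs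
  have hNF : Nat.card F = q := by rw [Nat.card_eq_fintype_card, hF]
  have hB : Nat.card (SzSplit.bnPair H).B = q ^ 2 * (q - 1) := by
    have := H.card_borel
    rw [hNF] at this
    exact this
  have hidx : (SzSplit.bnPair H).B.index = q ^ 2 + 1 := by
    have h1 := (SzSplit.bnPair H).B.card_mul_index
    rw [hB, hcard] at h1
    exact Nat.eq_of_mul_eq_mul_left (Nat.mul_pos (by positivity) (by omega)) h1
  obtain ⟨r, hr, hrd⟩ := Nat.exists_prime_and_dvd (n := q - 1) (by omega)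
  have hrq : ¬ r ∣ q := by
    intro h1
    have h2 : r ∣ 1 := by
      have h3 := Nat.dvd_sub h1 hrd
      rwa [show q - (q - 1) = 1 by (clear * - hq8; omega)] at h3
    exact hr.one_lt.ne' (Nat.dvd_one.mp h2)
  refine noHall_of_split hna (SzSplit.bnPair H) ⟨H.w, rfl⟩ hsp hr ?_ ?_
  · -- the torus
    have h1 : ∀ a : Fˣ, H.d a ∈ (SzSplit.bnPair H).B ⊓ (SzSplit.bnPair H).N := fun a =>
      ⟨H.d_mem_borel a, Or.inl ⟨a, rfl⟩⟩
    let φ : Fˣ →* ↥((SzSplit.bnPair H).B ⊓ (SzSplit.bnPair H).N) :=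
      { toFun := fun a => ⟨H.d a, h1 a⟩
        map_one' := Subtype.ext H.d_one
        map_mul' := fun a b => Subtype.ext (H.d_mul a b).symm }
    have h2 : Function.Injective φ := fun a b e => H.d_inj (congrArg Subtype.val e)
    have h3 := Subgroup.card_dvd_of_injective φ h2
    rw [Nat.card_units, hNF] at h3
    exact hrd.trans h3
  · rw [hidx]
    intro h1
    -- `q² + 1 ≡ 2`
    have h2 : q ^ 2 + 1 = (q - 1) * (q + 1) + 2 := by
      obtain ⟨k, hk⟩ : ∃ k, q = k + 1 := ⟨q - 1, by omega⟩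
      rw [hk, Nat.add_sub_cancel]
      ring
    rw [h2] at h1
    have h3 : r ∣ 2 := (Nat.dvd_add_right (hrd.mul_right _)).mp h1
    have h4 := (Nat.prime_dvd_prime_iff_eq hr Nat.prime_two).mp h3
    exact hrq (h4 ▸ heven)

/-- In rank one the Borel subgroup is maximal. -/
theorem eq_B_of_rank_one {K : Type*} [Group K] [Finite K] [IsSimpleGroup K] {p : ℕ} [Fact p.Prime] {P : Cfsg.BNPair K}
    {U : Subgroup K} {w : K} (hw : P.S = {w}) (h : Split P p U) (hbr : ∀ g : K, g ∈ P.B ∨ ∃ b ∈ P.B, ∃ b' ∈ P.B, g = b * w * b')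
    {M : Subgroup K} (hM : P.B ≤ M) (hMt : M ≠ ⊤) : M = P.B := by
  obtain ⟨Z, hZ1, hZ2, s, hs, hsZ⟩ := exists_parabolic P ⟨w, by rw [hw]; rfl⟩ h (h.le.trans hM) hMt
  rw [hw, Set.mem_singleton_iff] at hs
  subst hs
  refine le_antisymm (fun g hg => ?_) hM
  rcases hbr g with h1 | ⟨b, hb, b', hb', e⟩
  · exact h1
  · exfalso
    apply hsZ
    have h1 : s = b⁻¹ * g * b'⁻¹ := by rw [e]; group
    rw [h1]
    exact mul_mem (mul_mem (inv_mem (hZ2 hb)) (hZ1 hg)) (inv_mem (hZ2 hb'))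

/-- **`²G₂(q)`.** -/
theorem noHall_Ree {K : Type*} [Field K] [Fintype K] {m : ℕ} (hm : 1 ≤ m) (hK : Fintype.card K = 3 ^ (2 * m + 1)) :
    NoHall ↥(twistedG2 K (3 ^ m)) := by
  obtain ⟨hs, hna⟩ := Cfsg.Agent.S1073.result hm hK
  have hcard := Cfsg.Agent.S1069.result hK
  obtain ⟨U, h, n, D⟩ := Cfsg.Agent.ChevalleyStructure.Ree.Data.exists_data hK
  have hfin : Finite ↥(twistedG2 K (3 ^ m)) := inferInstance
  have hp3 : Fact (Nat.Prime 3) := ⟨Nat.prime_three⟩
  have hsp := ReeSplit.split hK D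
  set P := ReeSplit.bnPair D with hP
  set q := 3 ^ (2 * m + 1) with hq
  have hq27 : 27 ≤ q := by
    calc 27 = 3 ^ 3 := by norm_num
      _ ≤ 3 ^ (2 * m + 1) := Nat.pow_le_pow_right (by norm_num) (by omega)
  have hodd : ¬ 2 ∣ q := by
    intro h2
    have := Nat.prime_two.dvd_of_dvd_pow h2
    norm_num at this
  have hNK : Nat.card K = q := by rw [Nat.card_eq_fintype_card, hK]
  have htor : Nat.card ↥(P.B ⊓ P.N) = q - 1 := by
    have h1 : ∀ a : Kˣ, h a ∈ P.B ⊓ P.N := fun a => ⟨ReeSplit.h_mem_bSub D a, Or.inl ⟨a, rfl⟩⟩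
    rw [← hNK, ← Nat.card_units]
    symm
    refine Nat.card_congr (Equiv.ofBijective (fun a : Kˣ => (⟨h a, h1 a⟩ : ↥(P.B ⊓ P.N))) ⟨?_, ?_⟩)
    · intro a b e
      exact ReeSplit.h_inj D (congrArg Subtype.val e)
    · rintro ⟨g, hg⟩
      obtain ⟨a, rfl⟩ := ReeSplit.mem_inf D hg.1 hg.2
      exact ⟨a, rfl⟩
  -- the index of `B` and its order are even
  have hB2 : 2 ∣ Nat.card P.B := by
    refine Dvd.dvd.trans ?_ (Subgroup.card_dvd_of_le (inf_le_left : P.B ⊓ P.N ≤ P.B))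
    rw [htor]
    (clear * - hodd; omega)
  have hidx2 : 2 ∣ P.B.index := by
    have h1 : Nat.card ↥(P.B ⊓ P.N) * (P.B ⊓ P.N).relIndex P.B = Nat.card P.B := RG.card_mul_relIndex' inf_le_left
    have h2 : ¬ 2 ∣ (P.B ⊓ P.N).relIndex P.B := by
      intro h3
      have h4 := h3.trans (relIndex_dvd P hsp)
      obtain ⟨e, he⟩ := IsPGroup.iff_card.mp hsp.isP
      rw [he] at h4
      have := Nat.prime_two.dvd_of_dvd_pow h4
      norm_num at this
    have h3 := P.B.card_mul_index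
    rw [← h1, htor, hcard] at h3
    have h4 : (P.B ⊓ P.N).relIndex P.B * P.B.index = q ^ 3 * (q ^ 3 + 1) := by
      have h5 : (q - 1) * ((P.B ⊓ P.N).relIndex P.B * P.B.index) = (q - 1) * (q ^ 3 * (q ^ 3 + 1)) := by
        rw [← mul_assoc, h3]
        ring
      exact Nat.eq_of_mul_eq_mul_left (by (clear * - hq27; omega)) h5
    refine two_dvd_of_odd_mul h4 h2 (Dvd.dvd.mul_left ?_ _)
    have h6 : ¬ 2 ∣ q ^ 3 := fun h7 => hodd (Nat.prime_two.dvd_of_dvd_pow h7)
    omega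
  intro A0 l hA
  obtain ⟨Q, hQ⟩ := exists_sylow P hsp
  have hd3 : 3 ∣ Nat.card ↥(twistedG2 K (3 ^ m)) := by
    rw [hcard, mul_assoc]
    refine Dvd.dvd.mul_right ?_ _
    exact dvd_pow (dvd_pow_self 3 (by omega)) (by norm_num)
  obtain ⟨M, hM1, hM2, -, hM4, -, -⟩ := hA.sylow hna hd3 Q
  rw [hQ, hsp.normalizer_eq] at hM1
  have hMB : M = P.B := eq_B_of_rank_one (w := n) rfl hsp (ReeSplit.bruhat' D) hM1 hM2
  rw [hMB] at hM4
  have := Nat.dvd_gcd hB2 hidx2
  rw [hM4] at this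
  norm_num at this

end Cfsg.Agent.H554.LieSz
end

-- part: H554/LieTwF4
section
/-!
# No Hall systems: `²F₄(q)`, `q ≥ 8` (helper554)
-/

set_option autoImplicit false
set_option linter.unusedSectionVars false
set_option linter.style.haveILetI false

namespace Cfsg.Agent.H554.LieTwF4

open Cfsg.Lie
open Cfsg.Agent.ChevalleyStructure.TwF4.Tables
open Cfsg.Agent.ChevalleyStructure.TwF4.Rel
open Cfsg.Agent.ChevalleyStructure.TwF4.Groups Cfsg.Agent.ChevalleyStructure.TwF4.RankOne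
open Cfsg.Agent.ChevalleyStructure.TwF4.Twisted Cfsg.Agent.ChevalleyStructure.TwF4.TwistedFix
open Cfsg.Agent.ChevalleyStructure.TwF4.BN
open Cfsg.Agent.ChevalleyStructure.TwF4.Torus (T chi T_conj_X T_inr chi_def)
open Cfsg.Agent.ChevalleyStructure.F4NTab (ca)
open Cfsg.Agent.ChevalleyStructure.TwF4.TwGen (tc tc_mul chi_tc_24 chi_tc_25 chi_tc_33 chi_tc_27 chi28 chi30 pow_all
  n1_eq n2_eq n1_conj_T n2_conj_T)
open Cfsg.Agent.ChevalleyStructure.TwF4.TorusFix (mem_iff pow_unit T_rt rt)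
open Cfsg.Agent.ChevalleyStructure.TwF4.Fix (Fix)
open Cfsg.Agent.ChevalleyStructure.TwF4.OrderCls (X_inj)
open Cfsg.Agent.Schreier.TwFFour
open Cfsg.Agent.Octagon.KSys Cfsg.Agent.Octagon.KPar Cfsg.Agent.Octagon.KRoot Cfsg.Agent.Octagon.Pkg
open Cfsg.Agent.ParSys.Fam.TwoFFour

variable {K : Type*} [Field K] [Fintype K] {m : ℕ}

/-- the split (B,N)-pair of `²F₄(q)` -/
theorem exists_split (hm : 1 ≤ m) (hK : Fintype.card K = 2 ^ (2 * m + 1)) :
    ∃ (P : Cfsg.BNPair ↥(twistedF4 K (2 ^ m))) (U : Subgroup ↥(twistedF4 K (2 ^ m))), P.S.Nonempty ∧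
      FixBN.Split P 2 U ∧ Nat.card ↥(P.B ⊓ P.N) = (2 ^ (2 * m + 1) - 1) ^ 2 := by
  haveI : CharP K 2 := charP_two hK
  haveI : Fact (Nat.Prime 2) := ⟨Nat.prime_two⟩
  obtain ⟨φ, hφ⟩ := exists_rln hK
  obtain ⟨P, hPB, hPN, -, hPS⟩ := Cfsg.Agent.ChevalleyStructure.TwF4.BNIrred.exists_bnPair_irreducible hφ
  have hB : P.B = B0 K (2 ^ m) := hPB
  have hdec := dec hK hφ
  have hUp := isPGroup_U0 hK
  obtain ⟨c, hc0, hc1⟩ := card_ge hm hK
  set s1 : ↥(twistedF4 K (2 ^ m)) := m1 K (2 ^ m) with hs1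
  set s2 : ↥(twistedF4 K (2 ^ m)) := m2 hφ with hs2
  have node_1 : Cfsg.Agent.Schreier.BNSch.Node P (U0 K (2 ^ m)) s1 (V1 K (2 ^ m)) := node1 hφ hB
  have node_2 : Cfsg.Agent.Schreier.BNSch.Node P (U0 K (2 ^ m)) s2 (V8 K (2 ^ m)) := node2 hφ hB
  have hdB : ∀ b ∈ P.B, ∃ s t : Kˣ, ∃ u ∈ U0 K (2 ^ m), b = u * tt hdec s t := by
    intro b hb
    rw [hB] at hb
    obtain ⟨s, t, u, hu, hbu⟩ := hdec.1 b hb
    exact ⟨s, t, u, hu, Subtype.ext hbu⟩
  have httB : ∀ s t : Kˣ, tt hdec s t ∈ P.B := fun s t => by rw [hB]; exact tt_B0 hdec s t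
  have httN : ∀ s t : Kˣ, tt hdec s t ∈ P.N := fun s t => by
    rw [hPN]
    exact Cfsg.Agent.ChevalleyStructure.TwF4.NStruct.T_mem_N _
  have hH : ∀ h ∈ P.B, h ∈ P.N → ∃ s t : Kˣ, h = tt hdec s t := by
    intro h hh hN
    rw [hPB, Subgroup.mem_subgroupOf] at hh
    rw [hPN, Subgroup.mem_subgroupOf] at hN
    have h1 := borel_inf_N ⟨hh, hN⟩
    obtain ⟨s, t, hst⟩ := (mem_iff hK (h : GL chevF4.Idx K)).1 ⟨h1, h.2⟩
    exact ⟨s, t, Subtype.ext hst⟩
  have hUB : U0 K (2 ^ m) ≤ P.B := by rw [hB]; exact U0_le_B0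
  have hnorm : ∀ b ∈ P.B, ∀ u ∈ U0 K (2 ^ m), b * u * b⁻¹ ∈ U0 K (2 ^ m) := fun b hb u hu => by
    rw [hB] at hb
    exact conj_U0 hb hu
  have hsplit : FixBN.Split P 2 (U0 K (2 ^ m)) :=
    { le := hUB
      norm := hnorm
      isP := hUp
      cover := fun b hb => by
        obtain ⟨s, t, u, hu, rfl⟩ := hdB b hb
        refine ⟨u, hu, ?_⟩
        rw [inv_mul_cancel_left]
        exact httN s t
      tor := ⟨2 ^ (2 * m + 1) - 1, by
        have h1 : 2 ∣ 2 ^ (2 * m + 1) := dvd_pow_self 2 (by omega)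
        have h2 : 0 < 2 ^ (2 * m + 1) := by positivity
        omega, fun h hh hN => by
        obtain ⟨s, t, rfl⟩ := hH h hh hN
        apply Subtype.ext
        show T (tc (2 ^ m) s t) ^ (2 ^ (2 * m + 1) - 1) = 1
        rw [← map_pow]
        have h2 : tc (2 ^ m) s t ^ (2 ^ (2 * m + 1) - 1) = 1 := by
          have h3 : ∀ x : Kˣ, x ^ (2 ^ (2 * m + 1) - 1) = 1 := by
            intro x
            have h4 := pow_card_eq_one' (x := x)
            rwa [Nat.card_units, Nat.card_eq_fintype_card, hK] at h4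
          funext l
          rw [Pi.pow_apply, h3]; rfl
        rw [h2, map_one]⟩
      node := by
        intro s hs
        rw [hPS] at hs
        rcases hs with rfl | hs
        · exact ⟨_, node_1⟩
        · rw [Set.mem_singleton_iff] at hs
          subst hs
          exact ⟨_, node_2⟩
      core := by
        obtain ⟨hsimp, -⟩ := Cfsg.Agent.S1072.result hm hK
        rcases hsimp.eq_bot_or_eq_top_of_normal P.B.normalCore inferInstance with h | h
        · exact h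
        · exfalso
          have h1 : P.B = ⊤ := by
            rw [eq_top_iff, ← h]
            exact Subgroup.normalCore_le _
          obtain ⟨u, hu, huV⟩ := node_1.ne
          exact huV (node_1.stab u hu (by rw [h1]; exact Subgroup.mem_top _)) }
  have hdiag : ∀ g : ↥(twistedF4 K (2 ^ m)), g ∈ P.B → g ∈ P.N →
      (g : GL chevF4.Idx K) ∈ chevF4.diagonalSubgroup K ⊓ twistedF4 K (2 ^ m) := by
    intro g hh hN
    rw [hPB, Subgroup.mem_subgroupOf] at hh
    rw [hPN, Subgroup.mem_subgroupOf] at hN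
    exact ⟨borel_inf_N ⟨hh, hN⟩, g.2⟩
  refine ⟨P, _, ⟨s1, ?_⟩, hsplit, ?_⟩
  · rw [hPS]
    exact Set.mem_insert _ _
  · rw [← Cfsg.Agent.S1110.result hK]
    refine Nat.card_congr (Equiv.ofBijective (fun g : ↥(P.B ⊓ P.N) =>
      (⟨((g : ↥(twistedF4 K (2 ^ m))) : GL chevF4.Idx K), ?_⟩ :
        ↥(chevF4.diagonalSubgroup K ⊓ twistedF4 K (2 ^ m)))) ⟨?_, ?_⟩)
    · exact hdiag g.1 g.2.1 g.2.2
    · intro a b e
      exact Subtype.ext (Subtype.ext (congrArg (fun z : ↥(chevF4.diagonalSubgroup K ⊓ twistedF4 K (2 ^ m)) =>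
        (z : GL chevF4.Idx K)) e))
    · rintro ⟨g, hg⟩
      obtain ⟨s, t, hst⟩ := (mem_iff hK g).1 hg
      exact ⟨⟨tt hdec s t, httB s t, httN s t⟩, Subtype.ext hst.symm⟩

open Cfsg.Agent.H554.SplitTorus in
/-- **`²F₄(q)`, `q ≥ 8`.** -/
theorem noHall (hm : 1 ≤ m) (hK : Fintype.card K = 2 ^ (2 * m + 1)) : NoHall ↥(twistedF4 K (2 ^ m)) := by
  obtain ⟨hs, hna⟩ := Cfsg.Agent.S1072.result hm hK
  have hcard := Cfsg.Agent.S1068.result hK
  obtain ⟨P, U, hne, hsp, htor⟩ := exists_split hm hK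
  have hfin : Finite ↥(twistedF4 K (2 ^ m)) := inferInstance
  have hp2 : Fact (Nat.Prime 2) := ⟨Nat.prime_two⟩
  set q := 2 ^ (2 * m + 1) with hq
  have hq8 : 8 ≤ q := by
    calc 8 = 2 ^ 3 := by norm_num
      _ ≤ 2 ^ (2 * m + 1) := Nat.pow_le_pow_right (by norm_num) (by omega)
  have heven : 2 ∣ q := dvd_pow_self 2 (by omega)
  obtain ⟨r, hr, hrd⟩ := Nat.exists_prime_and_dvd (n := q - 1) (by omega)
  have hr2 : r ≠ 2 := by
    rintro rfl
    omega
  have hrq : ¬ r ∣ q := by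
    intro h1
    have h2 : r ∣ 1 := by
      have h3 := Nat.dvd_sub h1 hrd
      rwa [show q - (q - 1) = 1 by (clear * - hq8; omega)] at h3
    exact hr.one_lt.ne' (Nat.dvd_one.mp h2)
  refine noHall_of_split hna P hne hsp hr ?_ ?_
  · rw [htor, pow_two]
    exact hrd.mul_right _
  · intro hB
    have h1 : Nat.card ↥(P.B ⊓ P.N) * (P.B ⊓ P.N).relIndex P.B = Nat.card P.B := RG.card_mul_relIndex' inf_le_left
    have h3 := P.B.card_mul_index
    rw [← h1, htor, hcard] at h3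
    obtain ⟨k, hk⟩ : ∃ k, q = k + 1 := ⟨q - 1, by (clear * - hq8; omega)⟩
    have hk1 : q - 1 = k := by (clear * - hk; omega)
    have hq4 : q ^ 4 - 1 = k * ((q + 1) * (q ^ 2 + 1)) := by
      have : q ^ 4 = k * ((q + 1) * (q ^ 2 + 1)) + 1 := by rw [hk]; ring
      omega
    rw [hk1, hq4] at h3
    have h4 : (P.B ⊓ P.N).relIndex P.B * P.B.index = q ^ 12 * ((q ^ 3 + 1) * ((q + 1) * (q ^ 2 + 1)) * (q ^ 6 + 1)) := by
      have h5 : k ^ 2 * ((P.B ⊓ P.N).relIndex P.B * P.B.index) =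
          k ^ 2 * (q ^ 12 * ((q ^ 3 + 1) * ((q + 1) * (q ^ 2 + 1)) * (q ^ 6 + 1))) := by
        rw [← mul_assoc, h3]
        ring
      have hkpos : 0 < k ^ 2 := by
        have : 0 < k := by omega
        (clear * - this; positivity)
      exact Nat.eq_of_mul_eq_mul_left hkpos h5
    have h5 : r ∣ q ^ 12 * ((q ^ 3 + 1) * ((q + 1) * (q ^ 2 + 1)) * (q ^ 6 + 1)) := by
      rw [← h4]
      exact hB.mul_left _
    rw [← CharP.cast_eq_zero_iff (ZMod r) r] at h5
    have h6 : ((q : ℕ) : ZMod r) = 1 := by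
      have h7 : ((q - 1 : ℕ) : ZMod r) = 0 := (CharP.cast_eq_zero_iff (ZMod r) r _).mpr hrd
      rw [Nat.cast_sub (by omega), Nat.cast_one, sub_eq_zero] at h7
      exact h7
    push_cast at h5
    have h8 : ((2 ^ 4 : ℕ) : ZMod r) = 0 := by
      push_cast
      have h6' : (((2 : ZMod r)) ^ (2 * m + 1)) = 1 := by
        rw [hq] at h6
        push_cast at h6
        exact h6
      rw [hq] at h5
      push_cast at h5
      rw [h6'] at h5
      ring_nf at h5 ⊢
      exact h5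
    rw [CharP.cast_eq_zero_iff (ZMod r) r] at h8
    exact hr2 ((Nat.prime_dvd_prime_iff_eq hr Nat.prime_two).mp (hr.dvd_of_dvd_pow h8))

end Cfsg.Agent.H554.LieTwF4
end
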